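import Mathlib

/-!
Element orders of the symmetric and alternating groups of degree 8, and of groups
`V^k ⋊ A₈`, `V` the natural six-dimensional module, which have the same element orders.
-/

set_option autoImplicit false
set_option maxRecDepth 20000

open Equiv

namespace CfsgLib.SpectrumJ2

/-- The divisors of 7, 8, 10, 12, 15. -/
def spec : Set ℕ := {d | ∃ n ∈ ([7, 8, 10, 12, 15] : List ℕ), d ∣ n}

/-- The multisets of sum `n` with parts among `1, …, b`. -/
def partsUpTo : ℕ → ℕ → List (Multiset ℕ)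
  | n, 0 => if n = 0 then [0] else []
  | n, b + 1 => (List.range (n / (b + 1) + 1)).flatMap fun c =>
      (partsUpTo (n - c * (b + 1)) b).map fun m => Multiset.replicate c (b + 1) + m

theorem mem_partsUpTo : ∀ (b : ℕ) (m : Multiset ℕ), (∀ x ∈ m, 0 < x ∧ x ≤ b) →
    m ∈ partsUpTo m.sum b
  | 0, m, h => by
    obtain rfl : m = 0 := Multiset.eq_zero_of_forall_notMem fun x hx => by
      have := h x hx
      omega
    simp [partsUpTo]
  | b + 1, m, h => by
    set c := m.count (b + 1)
    set r := m.filter (fun x => ¬ x = b + 1)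
    have hm : m = Multiset.replicate c (b + 1) + r := by
      conv_lhs => rw [← Multiset.filter_add_not (fun x => x = b + 1) m]
      rw [Multiset.filter_eq']
    have hs : m.sum = c * (b + 1) + r.sum := by
      conv_lhs => rw [hm]
      rw [Multiset.sum_add, Multiset.sum_replicate, smul_eq_mul]
    rw [partsUpTo, List.mem_flatMap]
    refine ⟨c, List.mem_range.2 (Nat.lt_succ_of_le ((Nat.le_div_iff_mul_le (show 0 < b + 1 by omega)).2 (by omega))),
      List.mem_map.2 ⟨r, ?_, hm.symm⟩⟩
    have := mem_partsUpTo b r fun x hx => by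
      have hx' := Multiset.mem_filter.1 hx
      have := h x hx'.1
      omega
    rwa [show m.sum - c * (b + 1) = r.sum by omega]

theorem partsUpTo_facts : ∀ m ∈ partsUpTo 8 8,
    (∃ n ∈ ([7, 8, 10, 12, 15] : List ℕ), m.lcm ∣ n) ∧
    ((8 + Multiset.card m) % 2 = 0 → m.lcm ∈ ([1, 2, 3, 4, 5, 6, 7, 15] : List ℕ)) ∧
    (m.lcm = 7 → m.filter (2 ≤ ·) = {7}) ∧
    (m.lcm = 15 → m.filter (2 ≤ ·) = {5, 3}) := by
  decide +kernel

theorem partition_facts (p : Nat.Partition 8) :
    (∃ n ∈ ([7, 8, 10, 12, 15] : List ℕ), p.parts.lcm ∣ n) ∧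
    ((8 + Multiset.card p.parts) % 2 = 0 → p.parts.lcm ∈ ([1, 2, 3, 4, 5, 6, 7, 15] : List ℕ)) ∧
    (p.parts.lcm = 7 → p.parts.filter (2 ≤ ·) = {7}) ∧
    (p.parts.lcm = 15 → p.parts.filter (2 ≤ ·) = {5, 3}) := by
  refine partsUpTo_facts _ ?_
  have h := mem_partsUpTo 8 p.parts fun x hx => ⟨p.parts_pos hx,
    (Multiset.le_sum_of_mem hx).trans_eq p.parts_sum⟩
  rwa [p.parts_sum] at h

variable (g : Perm (Fin 8))

theorem lcm_parts : g.partition.parts.lcm = orderOf g := by
  rw [Equiv.Perm.parts_partition, Multiset.lcm_add, Equiv.Perm.lcm_cycleType]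
  have : ∀ n : ℕ, (Multiset.replicate n 1).lcm = 1 := by
    intro n
    induction n with
    | zero => simp
    | succ n ih => rw [Multiset.replicate_succ, Multiset.lcm_cons, ih]; rfl
  rw [this]
  exact Nat.lcm_one_right _

theorem filter_parts : g.partition.parts.filter (2 ≤ ·) = g.cycleType :=
  Equiv.Perm.filter_parts_partition_eq_cycleType

/-- The partition of `g`, as a partition of 8. -/
theorem exists_partition : ∃ p : Nat.Partition 8, p.parts = g.partition.parts :=
  ⟨⟨g.partition.parts, g.partition.parts_pos, by rw [g.partition.parts_sum, Fintype.card_fin]⟩, rfl⟩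

theorem orderOf_mem_spec : orderOf g ∈ spec := by
  obtain ⟨p, hp⟩ := exists_partition g
  obtain ⟨n, hn, hd⟩ := (partition_facts p).1
  rw [hp, lcm_parts] at hd
  exact ⟨n, hn, hd⟩

theorem orderOf_even (hg : Perm.sign g = 1) : orderOf g ∈ ([1, 2, 3, 4, 5, 6, 7, 15] : List ℕ) := by
  obtain ⟨p, hp⟩ := exists_partition g
  have h := (partition_facts p).2.1
  rw [hp, lcm_parts] at h
  refine h ?_
  rw [Equiv.Perm.parts_partition, Multiset.card_add, Multiset.card_replicate, Fintype.card_fin]
  rw [Equiv.Perm.sign_of_cycleType, neg_one_pow_eq_one_iff_even (by decide)] at hg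
  have hs : g.cycleType.sum = g.support.card := Equiv.Perm.sum_cycleType g
  have hle : g.support.card ≤ 8 := (Finset.card_le_univ _).trans_eq (Fintype.card_fin 8)
  obtain ⟨k, hk⟩ := hg
  omega

theorem cycleType_seven (h : orderOf g = 7) : g.cycleType = {7} := by
  obtain ⟨p, hp⟩ := exists_partition g
  have h' := (partition_facts p).2.2.1
  rw [hp, lcm_parts, filter_parts] at h'
  exact h' h

theorem cycleType_fifteen (h : orderOf g = 15) : g.cycleType = {5, 3} := by
  obtain ⟨p, hp⟩ := exists_partition g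
  have h' := (partition_facts p).2.2.2
  rw [hp, lcm_parts, filter_parts] at h'
  exact h' h

theorem mem_range_of_dvd {G : Type*} [Group G] {n d : ℕ} (hn : 0 < n) (x : G) (hx : orderOf x = n)
    (hd : d ∣ n) : d ∈ Set.range (orderOf : G → ℕ) :=
  ⟨x ^ (n / d), by rw [orderOf_pow' _ (Nat.div_pos (Nat.le_of_dvd hn hd)
    (Nat.pos_of_dvd_of_pos hd hn)).ne', hx, Nat.gcd_eq_right (Nat.div_dvd_of_dvd hd),
    Nat.div_div_self hd hn.ne']⟩

theorem orderOf_eq_of_checks {G : Type*} [Monoid G] {x : G} {n : ℕ} (hn : 0 < n)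
    (h1 : x ^ n = 1) (h2 : ∀ d ∈ n.properDivisors, x ^ d ≠ 1) : orderOf x = n := by
  by_contra hne
  exact h2 _ (Nat.mem_properDivisors.2 ⟨orderOf_dvd_of_pow_eq_one h1,
    lt_of_le_of_ne (orderOf_le_of_pow_eq_one hn h1) hne⟩) (pow_orderOf_eq_one x)

theorem range_orderOf_symEight : Set.range (orderOf : Perm (Fin 8) → ℕ) = spec := by
  ext d
  constructor
  · rintro ⟨g, rfl⟩
    exact orderOf_mem_spec g
  · rintro ⟨n, hn, hd⟩
    have key : ∀ l : List (List (Fin 8)), 0 < n →
        ((l.map List.formPerm).prod) ^ n = 1 →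
        (∀ e ∈ n.properDivisors, ((l.map List.formPerm).prod) ^ e ≠ 1) →
        d ∈ Set.range (orderOf : Perm (Fin 8) → ℕ) :=
      fun l h0 h1 h2 => mem_range_of_dvd h0 _ (orderOf_eq_of_checks h0 h1 h2) hd
    simp only [List.mem_cons, List.not_mem_nil, or_false] at hn
    rcases hn with rfl | rfl | rfl | rfl | rfl
    · exact key [[0, 1, 2, 3, 4, 5, 6]] (by norm_num) (by decide +kernel) (by decide +kernel)
    · exact key [[0, 1, 2, 3, 4, 5, 6, 7]] (by norm_num) (by decide +kernel) (by decide +kernel)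
    · exact key [[0, 1, 2, 3, 4], [5, 6]] (by norm_num) (by decide +kernel) (by decide +kernel)
    · exact key [[0, 1, 2, 3], [4, 5, 6]] (by norm_num) (by decide +kernel) (by decide +kernel)
    · exact key [[0, 1, 2, 3, 4], [5, 6, 7]] (by norm_num) (by decide +kernel) (by decide +kernel)

/-- The sum of a function over `o` steps along a permutation. -/
def trace (h : Perm (Fin 8)) (o : ℕ) (f : Fin 8 → ZMod 2) (a : Fin 8) : ZMod 2 :=
  ∑ j ∈ Finset.range o, f ((h ^ j) a)

theorem trace_const_rep :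
    (∀ f : Fin 8 → ZMod 2, (∑ a, f a) = 0 → ∀ a b,
      trace ([0, 1, 2, 3, 4, 5, 6] : List (Fin 8)).formPerm 7 f a =
      trace ([0, 1, 2, 3, 4, 5, 6] : List (Fin 8)).formPerm 7 f b) ∧
    (∀ f : Fin 8 → ZMod 2, (∑ a, f a) = 0 → ∀ a b,
      trace (([0, 1, 2, 3, 4] : List (Fin 8)).formPerm * ([5, 6, 7] : List (Fin 8)).formPerm) 15 f a =
      trace (([0, 1, 2, 3, 4] : List (Fin 8)).formPerm * ([5, 6, 7] : List (Fin 8)).formPerm) 15 f b) := by
  decide +kernel

theorem trace_const {h : Perm (Fin 8)} {o : ℕ} (ho : orderOf h = o) (ho' : o = 7 ∨ o = 15)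
    (f : Fin 8 → ZMod 2) (hf : (∑ a, f a) = 0) (a b : Fin 8) :
    trace h o f a = trace h o f b := by
  have key : ∀ r : Perm (Fin 8), r.cycleType = h.cycleType →
      (∀ f : Fin 8 → ZMod 2, (∑ a, f a) = 0 → ∀ a b, trace r o f a = trace r o f b) →
      trace h o f a = trace h o f b := by
    intro r hr hP
    obtain ⟨c, hc⟩ := isConj_iff.1 (Equiv.Perm.isConj_iff_cycleType_eq.2 hr)
    have hpow : ∀ (j : ℕ) (x : Fin 8), f ((h ^ j) x) = f (c ((r ^ j) (c⁻¹ x))) := by
      intro j x
      rw [← hc, conj_pow]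
      rfl
    have htr : ∀ x, trace h o f x = trace r o (fun y => f (c y)) (c⁻¹ x) := fun x =>
      Finset.sum_congr rfl fun j _ => hpow j x
    rw [htr, htr]
    exact hP _ (by rw [← hf]; exact Equiv.sum_comp c f) _ _
  rcases ho' with rfl | rfl
  · exact key _ (by rw [cycleType_seven h ho]; decide +kernel) trace_const_rep.1
  · exact key _ (by rw [cycleType_fifteen h ho]; decide +kernel) trace_const_rep.2

/-- `k` copies of the natural module: even functions on 8 points modulo constants, each written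
as the sums of its values at two points. -/
def module8 (k : ℕ) : AddSubgroup (Fin k × Fin 8 × Fin 8 → ZMod 2) where
  carrier := {F | ∀ i, ∃ f : Fin 8 → ZMod 2, (∑ a, f a) = 0 ∧ ∀ a b, F (i, a, b) = f a + f b}
  zero_mem' i := ⟨0, by simp, fun a b => by simp⟩
  add_mem' {F F'} hF hF' i := by
    obtain ⟨f, hf, hF⟩ := hF i
    obtain ⟨f', hf', hF'⟩ := hF' i
    refine ⟨f + f', by simp [Finset.sum_add_distrib, hf, hf'], fun a b => ?_⟩
    simp only [Pi.add_apply, hF, hF']
    abel
  neg_mem' {F} hF i := by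
    obtain ⟨f, hf, hF⟩ := hF i
    exact ⟨f, hf, fun a b => by rw [Pi.neg_apply, hF, ZMod.neg_eq_self_mod_two]⟩

/-- Moving a function along a permutation. -/
def move {k : ℕ} (g : Perm (Fin 8)) (F : module8 k) : module8 k :=
  ⟨fun p => F.1 (p.1, g⁻¹ p.2.1, g⁻¹ p.2.2), fun i => by
    obtain ⟨f, hf, hF⟩ := F.2 i
    exact ⟨fun a => f (g⁻¹ a), by rw [← hf]; exact Equiv.sum_comp g⁻¹ f, fun a b => hF _ _⟩⟩

theorem move_apply {k : ℕ} (g : Perm (Fin 8)) (F : module8 k) (p : Fin k × Fin 8 × Fin 8) :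
    (move g F).1 p = F.1 (p.1, g⁻¹ p.2.1, g⁻¹ p.2.2) := rfl

/-- The action of `A₈` on the module, as automorphisms. -/
def act (k : ℕ) : alternatingGroup (Fin 8) →* MulAut (Multiplicative (module8 k)) where
  toFun g :=
    { toFun := fun v => Multiplicative.ofAdd (move g.1 v.toAdd)
      invFun := fun v => Multiplicative.ofAdd (move g.1⁻¹ v.toAdd)
      left_inv := fun v => Multiplicative.toAdd.injective (Subtype.ext (funext fun p => by
        simp [move_apply]))
      right_inv := fun v => Multiplicative.toAdd.injective (Subtype.ext (funext fun p => by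
        simp [move_apply]))
      map_mul' := fun v w => rfl }
  map_one' := MulEquiv.ext fun v => Multiplicative.toAdd.injective (Subtype.ext (funext fun p => by
    simp [move_apply]))
  map_mul' g h := MulEquiv.ext fun v => Multiplicative.toAdd.injective (Subtype.ext (funext fun p => by
    change v.toAdd.1 (p.1, (g.1 * h.1)⁻¹ p.2.1, (g.1 * h.1)⁻¹ p.2.2) =
      v.toAdd.1 (p.1, h.1⁻¹ (g.1⁻¹ p.2.1), h.1⁻¹ (g.1⁻¹ p.2.2))
    rw [mul_inv_rev]
    rfl))

/-- `V^k ⋊ A₈`. -/
abbrev Ext (k : ℕ) : Type :=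
  SemidirectProduct (Multiplicative (module8 k)) (alternatingGroup (Fin 8)) (act k)

theorem act_apply (k : ℕ) (g : alternatingGroup (Fin 8)) (v : Multiplicative (module8 k))
    (p : Fin k × Fin 8 × Fin 8) :
    ((act k g v).toAdd).1 p = v.toAdd.1 (p.1, g.1⁻¹ p.2.1, g.1⁻¹ p.2.2) := rfl

theorem left_pow {k : ℕ} (x : Ext k) (n : ℕ) (p : Fin k × Fin 8 × Fin 8) :
    ((x ^ n).left.toAdd).1 p = ∑ j ∈ Finset.range n,
      x.left.toAdd.1 (p.1, (x.right.1⁻¹ ^ j) p.2.1, (x.right.1⁻¹ ^ j) p.2.2) := by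
  induction n generalizing p with
  | zero => rfl
  | succ n ih =>
    rw [pow_succ', SemidirectProduct.mul_left, toAdd_mul, AddSubgroup.coe_add, Pi.add_apply,
      act_apply, ih, Finset.sum_range_succ', add_comm]
    simp only [pow_succ, pow_zero, Equiv.Perm.mul_apply, Equiv.Perm.one_apply]

theorem right_pow {k : ℕ} (x : Ext k) (n : ℕ) : (x ^ n).right = x.right ^ n :=
  map_pow SemidirectProduct.rightHom x n

theorem sq_eq_one {k : ℕ} {x : Ext k} (h : x.right = 1) : x ^ 2 = 1 := by
  refine SemidirectProduct.ext ?_ (by rw [right_pow, h, one_pow]; rfl)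
  refine Multiplicative.toAdd.injective (Subtype.ext (funext fun p => ?_))
  rw [left_pow, Finset.sum_range_succ, Finset.sum_range_one, h]
  simp only [OneMemClass.coe_one, inv_one, one_pow, Equiv.Perm.one_apply, ← two_mul]
  rw [show (2 : ZMod 2) = 0 from rfl, zero_mul]
  rfl

theorem orderOf_mem_spec_ext {k : ℕ} (x : Ext k) : orderOf x ∈ spec := by
  have ho := orderOf_even (x.right : Perm (Fin 8)) x.right.2
  rw [Subgroup.orderOf_coe] at ho
  have hr : (x ^ orderOf x.right).right = 1 := by rw [right_pow, pow_orderOf_eq_one]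
  have h2 : orderOf x ∣ orderOf x.right * 2 :=
    orderOf_dvd_of_pow_eq_one (by rw [pow_mul]; exact sq_eq_one hr)
  have h1 : orderOf x.right = 7 ∨ orderOf x.right = 15 → orderOf x ∣ orderOf x.right := by
    intro h
    refine orderOf_dvd_of_pow_eq_one (SemidirectProduct.ext ?_ hr)
    refine Multiplicative.toAdd.injective (Subtype.ext (funext fun p => ?_))
    obtain ⟨f, hf, hF⟩ := x.left.toAdd.2 p.1
    rw [left_pow]
    simp only [hF, Finset.sum_add_distrib]
    have hc := trace_const (h := (x.right : Perm (Fin 8))⁻¹) (o := orderOf x.right)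
      (by rw [orderOf_inv, Subgroup.orderOf_coe]) h f hf p.2.1 p.2.2
    change trace _ _ f p.2.1 + trace _ _ f p.2.2 = 0
    rw [hc, ← two_mul, show (2 : ZMod 2) = 0 from rfl, zero_mul]
  simp only [List.mem_cons, List.not_mem_nil, or_false] at ho
  rcases ho with h | h | h | h | h | h | h | h
  all_goals rw [h] at h1 h2
  · exact ⟨8, by simp, h2.trans (by norm_num)⟩
  · exact ⟨8, by simp, h2.trans (by norm_num)⟩
  · exact ⟨12, by simp, h2.trans (by norm_num)⟩
  · exact ⟨8, by simp, h2.trans (by norm_num)⟩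
  · exact ⟨10, by simp, h2.trans (by norm_num)⟩
  · exact ⟨12, by simp, h2.trans (by norm_num)⟩
  · exact ⟨7, by simp, h1 (Or.inl rfl)⟩
  · exact ⟨15, by simp, h1 (Or.inr rfl)⟩

theorem range_orderOf_ext {k : ℕ} (hk : 0 < k) : Set.range (orderOf : Ext k → ℕ) = spec := by
  ext d
  constructor
  · rintro ⟨x, rfl⟩
    exact orderOf_mem_spec_ext x
  rintro ⟨n, hn, hd⟩
  have small : ∀ g : Perm (Fin 8), Perm.sign g = 1 → 0 < n → orderOf g = n →
      d ∈ Set.range (orderOf : Ext k → ℕ) := by
    intro g hg h0 hog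
    refine mem_range_of_dvd h0 (SemidirectProduct.inr ⟨g, hg⟩) ?_ hd
    rw [orderOf_injective _ SemidirectProduct.inr_injective, ← Subgroup.orderOf_coe]
    exact hog
  have big : ∀ (g : Perm (Fin 8)) (f : Fin 8 → ZMod 2) (m : ℕ), Perm.sign g = 1 →
      (∑ a, f a) = 0 → n = 2 * m → 0 < m → g ^ m = 1 →
      (∀ e ∈ n.properDivisors, g ^ e ≠ 1 ∨ ∃ a b, trace g⁻¹ e f a + trace g⁻¹ e f b ≠ 0) →
      d ∈ Set.range (orderOf : Ext k → ℕ) := by
    intro g f m hg hf hnm hm hgm he
    let F : module8 k := ⟨fun p => f p.2.1 + f p.2.2, fun i => ⟨f, hf, fun a b => rfl⟩⟩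
    let x : Ext k := ⟨Multiplicative.ofAdd F, ⟨g, hg⟩⟩
    refine mem_range_of_dvd (by omega) x ?_ hd
    refine orderOf_eq_of_checks (by omega) ?_ ?_
    · rw [hnm, mul_comm, pow_mul]
      exact sq_eq_one (by rw [right_pow]; exact Subtype.ext hgm)
    · intro e hee h1
      rcases he e hee with h | ⟨a, b, h⟩
      · refine h ?_
        have := congrArg (fun y : Ext k => ((y.right : alternatingGroup (Fin 8)) : Perm (Fin 8))) h1
        simpa [right_pow] using this
      · refine h ?_
        have := left_pow x e (⟨0, hk⟩, a, b)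
        rw [h1] at this
        unfold trace
        rw [← Finset.sum_add_distrib]
        exact this.symm
  simp only [List.mem_cons, List.not_mem_nil, or_false] at hn
  rcases hn with rfl | rfl | rfl | rfl | rfl
  · exact small ([0, 1, 2, 3, 4, 5, 6] : List (Fin 8)).formPerm (by decide +kernel) (by norm_num)
      (orderOf_eq_of_checks (by norm_num) (by decide +kernel) (by decide +kernel))
  · exact big (([0, 1, 2, 3] : List (Fin 8)).formPerm * ([4, 5] : List (Fin 8)).formPerm)
      ![1, 0, 0, 0, 0, 0, 1, 0] 4 (by decide +kernel) (by decide +kernel) rfl (by norm_num)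
      (by decide +kernel) (by decide +kernel)
  · exact big ([0, 1, 2, 3, 4] : List (Fin 8)).formPerm
      ![0, 0, 0, 0, 0, 1, 1, 0] 5 (by decide +kernel) (by decide +kernel) rfl (by norm_num)
      (by decide +kernel) (by decide +kernel)
  · exact big (([0, 1, 2] : List (Fin 8)).formPerm * ([3, 4] : List (Fin 8)).formPerm *
      ([5, 6] : List (Fin 8)).formPerm)
      ![0, 0, 0, 1, 0, 0, 0, 1] 6 (by decide +kernel) (by decide +kernel) rfl (by norm_num)
      (by decide +kernel) (by decide +kernel)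
  · exact small (([0, 1, 2, 3, 4] : List (Fin 8)).formPerm * ([5, 6, 7] : List (Fin 8)).formPerm)
      (by decide +kernel) (by norm_num)
      (orderOf_eq_of_checks (by norm_num) (by decide +kernel) (by decide +kernel))

/-- Arbitrarily large finite groups with these element orders. -/
theorem exists_large (N : ℕ) : ∃ (H : Type) (_ : Group H) (_ : Fintype H),
    N < Fintype.card H ∧ Set.range (orderOf : H → ℕ) = spec := by
  classical
  have : Finite (Ext (N + 1)) := Finite.of_equiv _ SemidirectProduct.equivProd.symm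
  let : Fintype (Ext (N + 1)) := Fintype.ofFinite _
  refine ⟨Ext (N + 1), inferInstance, inferInstance, ?_, range_orderOf_ext N.succ_pos⟩
  let f : Fin 8 → ZMod 2 := ![1, 1, 0, 0, 0, 0, 0, 0]
  let e : Fin (N + 1) → Ext (N + 1) := fun i => SemidirectProduct.inl (Multiplicative.ofAdd
    ⟨fun p => if p.1 = i then f p.2.1 + f p.2.2 else 0, fun j => by
      by_cases h : j = i
      · exact ⟨f, by decide, fun a b => if_pos h⟩
      · exact ⟨0, by simp, fun a b => by simp [h]⟩⟩)
  have he : Function.Injective e := fun i j hij => by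
    by_contra hne
    have h := congrArg (fun v : Multiplicative (module8 (N + 1)) => v.toAdd.1 (i, 0, 2))
      (SemidirectProduct.inl_injective hij)
    simp [hne, f] at h
  have := Fintype.card_le_of_injective e he
  rw [Fintype.card_fin] at this
  omega

end CfsgLib.SpectrumJ2
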