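import Cfsg.Agent.Lib.Icosian.Model
import Cfsg.Agent.Lib.Sporadic.HallJankoOrders
import Cfsg.Agent.Lib.SpectrumJ2.SymEight

/-! The element orders of the Hall–Janko group. -/

namespace CfsgLib.SpectrumJ2

theorem range_orderOf_J2 : Set.range (orderOf : Cfsg.Spor.J2 → ℕ) = spec := by
  rw [show spec = {d | ∃ n ∈ CfsgLib.Sporadic.HallJanko.Orders.expo, d ∣ n} from rfl,
    ← CfsgLib.Sporadic.HallJanko.Orders.range_orderOf]
  ext d
  constructor
  · rintro ⟨x, rfl⟩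
    exact ⟨CfsgLib.Icosian.toHJ x, MulEquiv.orderOf_eq CfsgLib.Icosian.toHJ x⟩
  · rintro ⟨x, rfl⟩
    exact ⟨CfsgLib.Icosian.toHJ.symm x, MulEquiv.orderOf_eq CfsgLib.Icosian.toHJ.symm x⟩

end CfsgLib.SpectrumJ2
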