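import Cfsg.Agent.Lib.Icosian.Model
import Cfsg.Agent.Lib.Sporadic.HallJankoAut

/-! The outer automorphism group of the Hall–Janko group. -/

namespace CfsgLib.SpectrumJ2

theorem card_out_of_mulEquiv {G H : Type*} [Group G] [Group H] (e : G ≃* H) :
    Nat.card (Cfsg.Out G) = Nat.card (Cfsg.Out H) := by
  show Nat.card (MulAut G ⧸ Cfsg.Inn G) = Nat.card (MulAut H ⧸ Cfsg.Inn H)
  rw [← Subgroup.index_eq_card, ← Subgroup.index_eq_card,
    ← Subgroup.index_map_equiv (Cfsg.Inn G) (MulAut.congr e)]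
  congr 1
  ext φ
  constructor
  · rintro ⟨ψ, ⟨g, rfl⟩, rfl⟩
    exact ⟨e g, MulEquiv.ext fun h => by simp [MulAut.congr, MulAut.conj_apply]⟩
  · rintro ⟨h, rfl⟩
    exact ⟨_, ⟨e.symm h, rfl⟩, MulEquiv.ext fun x => by simp [MulAut.congr, MulAut.conj_apply]⟩

theorem card_out_J2 : Nat.card (Cfsg.Out Cfsg.Spor.J2) = 2 :=
  (card_out_of_mulEquiv CfsgLib.Icosian.toHJ).trans CfsgLib.Sporadic.HallJanko.Aut.card_out

end CfsgLib.SpectrumJ2
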